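import Mathlib.GroupTheory.PGroup
import Mathlib.LinearAlgebra.Dual.Lemmas
import Mathlib.LinearAlgebra.Dimension.Finrank
import Mathlib.Algebra.Module.ZMod
import Mathlib.Algebra.CharP.Lemmas
import Mathlib.Algebra.CharP.Algebra
import Cfsg.Agent.H215.J7.Reduced
import Cfsg.Agent.H215.J7.Form

/-!
# Invariant forms on irreducible modules (T6 of S3068)

`L` normal in `G`, `G / L` a `p`-group, `U` an irreducible `G`-module over the field with `p` elements, `f : U × U → V`
bilinear and `G`-equivariant, `L` trivial on `V`.  If `(a - 1) ^ (p - 1) = 0` on `U` and `(a - 1) ^ 2 = 0` on `V` then `a`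
centralizes `f(U, U)`.
-/

set_option autoImplicit false
set_option linter.unusedSectionVars false

namespace Cfsg.Agent.H215.J7.EndL

open Cfsg.Agent.H215.J7.Form

/-- the commutator calculus -/
theorem pow_comm {E : Type*} [Ring E] {n A h δ : E} (hA : A = 1 + n) (h1 : A * h = (h + δ) * A) (h2 : δ * A = A * δ)
    (k : ℕ) : n ^ (k + 1) * h = h * n ^ (k + 1) + ((k + 1 : ℕ) : E) * (δ * A * n ^ k) := by
  have hn : n = A - 1 := by rw [hA]; noncomm_ring
  have h0 : n * h = h * n + δ * A := by
    rw [hn, sub_mul, h1, one_mul, mul_sub, mul_one]; noncomm_ring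
  have hAn : n * A = A * n := by rw [hA]; noncomm_ring
  have hdn : n * (δ * A) = δ * A * n := by
    rw [hn, sub_mul, mul_sub, one_mul, mul_one, ← mul_assoc, ← h2]
  induction k with
  | zero => simp [h0]
  | succ k ih =>
    have e : n ^ (k + 1 + 1) * h = n * (n ^ (k + 1) * h) := by rw [pow_succ' n (k + 1), mul_assoc]
    rw [e, ih, mul_add, ← mul_assoc n h, h0, add_mul]
    have e2 : n * (((k + 1 : ℕ) : E) * (δ * A * n ^ k)) = ((k + 1 : ℕ) : E) * (δ * A * n ^ (k + 1)) := by
      rw [← mul_assoc, ← Nat.cast_comm, mul_assoc, ← mul_assoc n, hdn, mul_assoc (δ * A), ← pow_succ']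
    have e3 : h * n * n ^ (k + 1) = h * n ^ (k + 1 + 1) := by rw [pow_succ' n (k + 1), mul_assoc]
    rw [e2, e3]
    push_cast
    noncomm_ring

theorem delta_pow {E : Type*} [Ring E] {p : ℕ} (hk : ∀ k : ℕ, 0 < k → k < p → ∀ x : E, (k : E) * x = 0 → x = 0)
    {n A A' h δ : E} (hA : A = 1 + n) (hA' : A * A' = 1) (h1 : A * h = (h + δ) * A) (h2 : δ * A = A * δ)
    (h3 : δ * h = h * δ) (hn : n ^ (p - 1) = 0) : δ ^ (p - 1) = 0 := by
  have hn' : n = A - 1 := by rw [hA]; noncomm_ring
  have hAn : A * n = n * A := by rw [hn']; noncomm_ring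
  have hnδ : n * δ = δ * n := by rw [hn', sub_mul, mul_sub, h2, one_mul, mul_one]
  have key : ∀ j : ℕ, j ≤ p - 1 → δ ^ j * n ^ (p - 1 - j) = 0 := by
    intro j
    induction j with
    | zero => intro _; rw [pow_zero, one_mul, Nat.sub_zero]; exact hn
    | succ j ih =>
      intro hj
      have h4 := ih (by omega)
      obtain ⟨k, hk'⟩ : ∃ k, p - 1 - j = k + 1 := ⟨p - 1 - j - 1, by omega⟩
      have hk2 : p - 1 - (j + 1) = k := by omega
      rw [hk'] at h4
      rw [hk2]
      have h5 := pow_comm hA h1 h2 k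
      have h6 : δ ^ j * (n ^ (k + 1) * h) = 0 := by rw [← mul_assoc, h4, zero_mul]
      have h7 : δ ^ j * (h * n ^ (k + 1)) = 0 := by
        have hc : Commute (δ ^ j) h := (show Commute δ h from h3).pow_left j
        rw [← mul_assoc, hc.eq, mul_assoc, h4, mul_zero]
      rw [h5, mul_add, h7, zero_add] at h6
      have h8 : ((k + 1 : ℕ) : E) * (δ ^ (j + 1) * n ^ k * A) = 0 := by
        have hc : Commute A (n ^ k) := (show Commute A n from hAn).pow_right k
        have e : δ ^ (j + 1) * n ^ k * A = δ ^ j * (δ * A * n ^ k) := by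
          rw [pow_succ, mul_assoc, ← hc.eq]; simp only [mul_assoc]
        rw [e, ← mul_assoc, Nat.cast_comm, mul_assoc]
        exact h6
      have h9 := hk (k + 1) (by omega) (by omega) _ h8
      have h10 : δ ^ (j + 1) * n ^ k * A * A' = 0 := by rw [h9, zero_mul]
      rwa [mul_assoc, hA', mul_one] at h10
  have := key (p - 1) le_rfl
  rwa [Nat.sub_self, pow_zero, mul_one] at this

variable {G U V : Type*} [Group G] [AddCommGroup U] [Finite U] [AddCommGroup V] [Finite V] [DistribMulAction G U]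
  [DistribMulAction G V] {p : ℕ} [hp : Fact p.Prime]

section Rho

variable [Module (ZMod p) U]

/-- the representation -/
def rho (p : ℕ) (G U : Type*) [Group G] [AddCommGroup U] [DistribMulAction G U] [Module (ZMod p) U] :
    G →* Module.End (ZMod p) U where
  toFun g := (DistribSMul.toAddMonoidHom U g).toZModLinearMap p
  map_one' := by ext u; exact one_smul G u
  map_mul' g h := by ext u; exact mul_smul g h u

theorem rho_apply (g : G) (u : U) : rho p G U g u = g • u := rfl

/-- the ring of endomorphisms commuting with `L` -/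
def HH (p : ℕ) (U : Type*) [AddCommGroup U] [DistribMulAction G U] [Module (ZMod p) U] (L : Subgroup G) :
    Subring (Module.End (ZMod p) U) where
  carrier := {h | ∀ l ∈ L, rho p G U l * h = h * rho p G U l}
  one_mem' := fun l _ => by rw [mul_one, one_mul]
  mul_mem' := by
    intro a b ha hb l hl
    rw [← mul_assoc, ha l hl, mul_assoc, hb l hl, mul_assoc]
  zero_mem' := fun l _ => by rw [mul_zero, zero_mul]
  add_mem' := by
    intro a b ha hb l hl
    rw [mul_add, add_mul, ha l hl, hb l hl]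
  neg_mem' := by
    intro a ha l hl
    rw [mul_neg, neg_mul, ha l hl]

theorem mem_HH {L : Subgroup G} {h : Module.End (ZMod p) U} :
    h ∈ HH p U L ↔ ∀ l ∈ L, rho p G U l * h = h * rho p G U l := Iff.rfl

/-- the group of automorphisms commuting with `L` -/
def HU (p : ℕ) (U : Type*) [AddCommGroup U] [DistribMulAction G U] [Module (ZMod p) U] (L : Subgroup G) :
    Subgroup (Module.End (ZMod p) U)ˣ :=
  Subgroup.centralizer ((rho p G U).toHomUnits '' (L : Set G))

theorem mem_HU {L : Subgroup G} {σ : (Module.End (ZMod p) U)ˣ} :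
    σ ∈ HU p U L ↔ (σ : Module.End (ZMod p) U) ∈ HH p U L := by
  constructor
  · intro h l hl
    have := Subgroup.mem_centralizer_iff.1 h _ ⟨l, hl, rfl⟩
    exact congrArg Units.val this
  · intro h
    refine Subgroup.mem_centralizer_iff.2 ?_
    rintro _ ⟨l, hl, rfl⟩
    exact Units.ext (h l hl)

theorem le_normalizer_HU {L : Subgroup G} (hL : L.Normal) (g : G) :
    (rho p G U).toHomUnits g ∈ Subgroup.normalizer (HU p U L : Set (Module.End (ZMod p) U)ˣ) := by
  have h1 : ∀ g : G, ∀ σ ∈ HU p U L,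
      (rho p G U).toHomUnits g * σ * ((rho p G U).toHomUnits g)⁻¹ ∈ HU p U L := by
    intro g σ hσ
    refine Subgroup.mem_centralizer_iff.2 ?_
    rintro _ ⟨l, hl, rfl⟩
    have h2 := Subgroup.mem_centralizer_iff.1 hσ _ ⟨g⁻¹ * l * g, by simpa using hL.conj_mem l hl g⁻¹, rfl⟩
    rw [map_mul, map_mul, map_inv] at h2
    set r := (rho p G U).toHomUnits g
    set m := (rho p G U).toHomUnits l
    calc m * (r * σ * r⁻¹) = r * (r⁻¹ * m * r * σ) * r⁻¹ := by group
      _ = r * (σ * (r⁻¹ * m * r)) * r⁻¹ := by rw [h2]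
      _ = r * σ * r⁻¹ * m := by group
  rw [Subgroup.mem_normalizer_iff]
  intro σ
  constructor
  · exact fun h => h1 g σ h
  · intro h
    have := h1 g⁻¹ _ h
    rw [map_inv, inv_inv] at this
    have e : ((rho p G U).toHomUnits g)⁻¹ * ((rho p G U).toHomUnits g * σ * ((rho p G U).toHomUnits g)⁻¹) *
        (rho p G U).toHomUnits g = σ := by group
    rwa [e] at this

/-- `p` does not divide the order of the group of `L`-automorphisms of an irreducible `LS`-module -/
theorem not_dvd [Nontrivial U] {L S : Subgroup G} (hLn : L.Normal) (hS : IsPGroup p S) (hLS : L ⊔ S = ⊤)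
    (hirr : ∀ N : AddSubgroup U, (∀ (g : G), ∀ u ∈ N, g • u ∈ N) → N = ⊥ ∨ N = ⊤) :
    ¬ p ∣ Nat.card (HU p U L) := by
  intro hdvd
  have hfin : Finite (Module.End (ZMod p) U) := Finite.of_injective (fun f : Module.End (ZMod p) U => (f : U → U))
    DFunLike.coe_injective
  have hfinu : Finite (Module.End (ZMod p) U)ˣ := inferInstance
  let φ : ↥S →* MulAut ↥(HU p U L) := (HU p U L).normalizerMonoidHom.comp
    { toFun := fun s => ⟨(rho p G U).toHomUnits (s : G), le_normalizer_HU hLn _⟩
      map_one' := Subtype.ext (map_one _)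
      map_mul' := fun s t => Subtype.ext (map_mul _ _ _) }
  let _ : MulDistribMulAction ↥S ↥(HU p U L) := MulDistribMulAction.compHom _ φ
  have h1 := hS.card_modEq_card_fixedPoints (HU p U L)
  have h2 : p ∣ Nat.card (MulAction.fixedPoints ↥S ↥(HU p U L)) :=
    (Nat.modEq_zero_iff_dvd).1 (h1.symm.trans hdvd.modEq_zero_nat)
  let C : Subgroup ↥(HU p U L) := FixedPoints.subgroup ↥S ↥(HU p U L)
  have h3 : p ∣ Nat.card C := h2
  obtain ⟨σ, hσ⟩ := exists_prime_orderOf_dvd_card' p h3
  set τ : (Module.End (ZMod p) U)ˣ := ((σ : ↥(HU p U L)) : (Module.End (ZMod p) U)ˣ) with hτ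
  have hτo : orderOf τ = p := by
    rw [hτ, Subgroup.orderOf_coe, Subgroup.orderOf_coe, hσ]
  -- `τ` commutes with `G`
  have hcomm : ∀ g : G, (rho p G U).toHomUnits g * τ = τ * (rho p G U).toHomUnits g := by
    let K : Subgroup G := (Subgroup.centralizer ({τ} : Set (Module.End (ZMod p) U)ˣ)).comap (rho p G U).toHomUnits
    have hK : ∀ g, g ∈ K ↔ τ * (rho p G U).toHomUnits g = (rho p G U).toHomUnits g * τ := by
      intro g
      show (rho p G U).toHomUnits g ∈ Subgroup.centralizer ({τ} : Set (Module.End (ZMod p) U)ˣ) ↔ _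
      rw [Subgroup.mem_centralizer_singleton_iff]
      exact ⟨fun h => h.symm, fun h => h.symm⟩
    have hLK : L ≤ K := by
      intro l hl
      rw [hK]
      exact (Subgroup.mem_centralizer_iff.1 (σ : ↥(HU p U L)).2 _ ⟨l, hl, rfl⟩).symm
    have hSK : S ≤ K := by
      intro s hs
      rw [hK]
      have h4 := σ.2 ⟨s, hs⟩
      have h5 : (rho p G U).toHomUnits s * τ * ((rho p G U).toHomUnits s)⁻¹ = τ := congrArg Subtype.val h4
      exact (mul_inv_eq_iff_eq_mul.1 h5).symm
    intro g
    have : g ∈ K := by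
      have h6 : (⊤ : Subgroup G) ≤ K := by rw [← hLS]; exact sup_le hLK hSK
      exact h6 (Subgroup.mem_top g)
    exact ((hK g).1 this).symm
  -- the fixed points of `τ`
  let N : AddSubgroup U :=
    { carrier := {u | (τ : Module.End (ZMod p) U) u = u}
      zero_mem' := map_zero _
      add_mem' := by
        intro u v hu hv
        show (τ : Module.End (ZMod p) U) (u + v) = u + v
        rw [map_add, show (τ : Module.End (ZMod p) U) u = u from hu, show (τ : Module.End (ZMod p) U) v = v from hv]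
      neg_mem' := by
        intro u hu
        show (τ : Module.End (ZMod p) U) (-u) = -u
        rw [map_neg, show (τ : Module.End (ZMod p) U) u = u from hu] }
  have hN : ∀ (g : G), ∀ u ∈ N, g • u ∈ N := by
    intro g u hu
    have h4 := congrArg Units.val (hcomm g)
    have h5 : (τ : Module.End (ZMod p) U) (rho p G U g u) = rho p G U g ((τ : Module.End (ZMod p) U) u) :=
      (LinearMap.congr_fun h4 u).symm
    show (τ : Module.End (ZMod p) U) (rho p G U g u) = rho p G U g u
    rw [h5, show (τ : Module.End (ZMod p) U) u = u from hu]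
  have hchar : CharP (Module.End (ZMod p) U) p :=
    charP_of_injective_algebraMap (algebraMap (ZMod p) (Module.End (ZMod p) U)).injective p
  have hτp : τ ^ p = 1 := by
    have := pow_orderOf_eq_one τ
    rwa [hτo] at this
  have hpow : ((τ : Module.End (ZMod p) U) - 1) ^ p = 0 := by
    rw [sub_pow_char_of_commute p (Commute.one_right _), one_pow, ← Units.val_pow_eq_pow_val, hτp,
      Units.val_one, sub_self]
  rcases hirr N hN with h4 | h4
  · have hinj : Function.Injective ((τ : Module.End (ZMod p) U) - 1 : Module.End (ZMod p) U) := by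
      rw [injective_iff_map_eq_zero]
      intro u hu
      have : u ∈ N := sub_eq_zero.1 hu
      rw [h4, AddSubgroup.mem_bot] at this
      exact this
    have hinj2 : ∀ k : ℕ, Function.Injective ((((τ : Module.End (ZMod p) U) - 1) ^ k : Module.End (ZMod p) U)) := by
      intro k
      induction k with
      | zero => rw [pow_zero]; exact Function.injective_id
      | succ k ih => rw [pow_succ]; exact ih.comp hinj
    obtain ⟨u, hu⟩ := exists_ne (0 : U)
    apply hu
    apply hinj2 p
    rw [hpow, map_zero]; rfl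
  · have h5 : τ = 1 := by
      apply Units.ext
      ext u
      have : u ∈ N := by rw [h4]; trivial
      exact this
    rw [h5, orderOf_one] at hτo
    exact hp.out.one_lt.ne hτo

theorem charP_end [Nontrivial U] : CharP (Module.End (ZMod p) U) p :=
  charP_of_injective_algebraMap (algebraMap (ZMod p) (Module.End (ZMod p) U)).injective p

/-- the ring is reduced -/
theorem reduced [Nontrivial U] {L S : Subgroup G} (hLn : L.Normal) (hS : IsPGroup p S) (hLS : L ⊔ S = ⊤)
    (hirr : ∀ N : AddSubgroup U, (∀ (g : G), ∀ u ∈ N, g • u ∈ N) → N = ⊥ ∨ N = ⊤)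
    (x : HH p U L) (hx : x * x = 0) : x = 0 := by
  have hfin : Finite (Module.End (ZMod p) U) := Finite.of_injective (fun f : Module.End (ZMod p) U => (f : U → U))
    DFunLike.coe_injective
  have hchar : CharP (Module.End (ZMod p) U) p := charP_end
  have hx' : (x : Module.End (ZMod p) U) * x = 0 := congrArg Subtype.val hx
  let u : (Module.End (ZMod p) U)ˣ :=
    { val := 1 + x
      inv := 1 - x
      val_inv := by
        have e : (1 + (x : Module.End (ZMod p) U)) * (1 - x) = 1 - x * x := by noncomm_ring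
        rw [e, hx', sub_zero]
      inv_val := by
        have e : (1 - (x : Module.End (ZMod p) U)) * (1 + x) = 1 - x * x := by noncomm_ring
        rw [e, hx', sub_zero] }
  have hu : u ∈ HU p U L := mem_HU.2 (add_mem (one_mem _) x.2)
  have hp2 : (x : Module.End (ZMod p) U) ^ p = 0 := by
    obtain ⟨k, hk⟩ : ∃ k, p = k + 2 := ⟨p - 2, by have := hp.out.two_le; omega⟩
    have e : (x : Module.End (ZMod p) U) ^ (k + 2) = (x : Module.End (ZMod p) U) ^ k * (x * x) := by
      rw [pow_add, sq]
    have e2 : (x : Module.End (ZMod p) U) ^ p = (x : Module.End (ZMod p) U) ^ (k + 2) := by congr 1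
    rw [e2, e, hx', mul_zero]
  have hup : u ^ p = 1 := by
    apply Units.ext
    rw [Units.val_pow_eq_pow_val]
    show (1 + (x : Module.End (ZMod p) U)) ^ p = 1
    rw [add_pow_char_of_commute p (Commute.one_left _), one_pow, hp2, add_zero]
  have h1 := not_dvd (p := p) (U := U) hLn hS hLS hirr
  have h2 : orderOf (⟨u, hu⟩ : HU p U L) ∣ p := orderOf_dvd_of_pow_eq_one (Subtype.ext hup)
  have h3 := orderOf_dvd_natCard (⟨u, hu⟩ : HU p U L)
  rcases (Nat.dvd_prime hp.out).1 h2 with h4 | h4
  · have h5 : (⟨u, hu⟩ : HU p U L) = 1 := orderOf_eq_one_iff.1 h4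
    have h6 : (1 : Module.End (ZMod p) U) + x = 1 := congrArg (fun t : HU p U L => ((t : (Module.End (ZMod p) U)ˣ) : Module.End (ZMod p) U)) h5
    apply Subtype.ext
    exact left_eq_add.1 h6.symm
  · rw [h4] at h3
    exact absurd h3 h1

/-- the ring is commutative -/
theorem comm [Nontrivial U] {L S : Subgroup G} (hLn : L.Normal) (hS : IsPGroup p S) (hLS : L ⊔ S = ⊤)
    (hirr : ∀ N : AddSubgroup U, (∀ (g : G), ∀ u ∈ N, g • u ∈ N) → N = ⊥ ∨ N = ⊤)
    {x y : Module.End (ZMod p) U} (hx : x ∈ HH p U L) (hy : y ∈ HH p U L) : x * y = y * x := by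
  have hfin : Finite (Module.End (ZMod p) U) := Finite.of_injective (fun f : Module.End (ZMod p) U => (f : U → U))
    DFunLike.coe_injective
  have := Reduced.comm (reduced (p := p) (U := U) hLn hS hLS hirr) ⟨x, hx⟩ ⟨y, hy⟩
  exact congrArg Subtype.val this

end Rho

/-- the form as a bilinear map over `ZMod p` -/
theorem exists_lin [Module (ZMod p) U] [Module (ZMod p) V] (f : U →+ U →+ V) :
    ∃ fL : U →ₗ[ZMod p] U →ₗ[ZMod p] V, ∀ x y, fL x y = f x y :=
  ⟨LinearMap.mk₂ (ZMod p) (fun x y => f x y)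
    (fun x x' y => by rw [map_add, AddMonoidHom.add_apply])
    (fun c x y => ZMod.map_smul (f.flip y) c x)
    (fun x y y' => map_add _ _ _) (fun c x y => ZMod.map_smul (f x) c y), fun x y => rfl⟩

/-- **T6** : `a` centralizes `f(U, U)` -/
theorem main' [Module (ZMod p) U] [Module (ZMod p) V] {f : U →+ U →+ V}
    (hf : ∀ (g : G) (x y : U), f (g • x) (g • y) = g • f x y) {L S : Subgroup G} (hLn : L.Normal)
    (hLV : ∀ l ∈ L, ∀ v : V, l • v = v) (hS : IsPGroup p S) (hLS : L ⊔ S = ⊤)
    (hirr : ∀ N : AddSubgroup U, (∀ (g : G), ∀ u ∈ N, g • u ∈ N) → N = ⊥ ∨ N = ⊤) {a : G}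
    (haU : ∀ u : U, (dl a)^[p - 1] u = 0) (haV : ∀ v : V, dl a (dl a v) = 0) (x y : U) :
    a • f x y = f x y := by
  classical
  by_cases hUn : Nontrivial U
  swap
  · rw [not_nontrivial_iff_subsingleton] at hUn
    rw [Subsingleton.elim x 0, map_zero, AddMonoidHom.zero_apply, smul_zero]
  obtain ⟨fL, hfL⟩ := exists_lin (p := p) f
  let Φ : AddSubgroup (U →ₗ[ZMod p] Module.Dual (ZMod p) U) :=
    { carrier := {B | ∃ ψ : Module.Dual (ZMod p) V, ∀ x y, B x y = ψ (f x y)}
      zero_mem' := ⟨0, fun x y => rfl⟩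
      add_mem' := by
        rintro B C ⟨ψ, h1⟩ ⟨χ, h2⟩
        refine ⟨ψ + χ, fun x y => ?_⟩
        rw [LinearMap.add_apply, LinearMap.add_apply, LinearMap.add_apply, h1, h2]
      neg_mem' := by
        rintro B ⟨ψ, h1⟩
        refine ⟨-ψ, fun x y => ?_⟩
        rw [LinearMap.neg_apply, LinearMap.neg_apply, LinearMap.neg_apply, h1] }
  have hΦ : ∀ B, B ∈ Φ ↔ ∃ ψ : Module.Dual (ZMod p) V, ∀ x y, B x y = ψ (f x y) := fun B => Iff.rfl
  have hsep : ∀ v : V, (∀ ψ : Module.Dual (ZMod p) V, ψ v = 0) → v = 0 := fun v hv =>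
    (Module.forall_dual_apply_eq_zero_iff (ZMod p) v).1 hv
  have hmk : ∀ ψ : Module.Dual (ZMod p) V, fL.compr₂ ψ ∈ Φ := fun ψ => ⟨ψ, fun x y => by
    rw [LinearMap.compr₂_apply, hfL]⟩
  by_cases hΦ0 : Φ = ⊥
  · have h0 : f x y = 0 := by
      apply hsep
      intro ψ
      have h1 := hmk ψ
      rw [hΦ0, AddSubgroup.mem_bot] at h1
      have h2 := LinearMap.congr_fun (LinearMap.congr_fun h1 x) y
      rw [LinearMap.compr₂_apply, hfL] at h2
      exact h2
    rw [h0, smul_zero]
  -- the action on `Φ`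
  have htw : ∀ (g : G), ∀ B ∈ Φ, B.compl₁₂ (rho p G U g⁻¹) (rho p G U g⁻¹) ∈ Φ := by
    rintro g B ⟨ψ, h1⟩
    refine ⟨ψ ∘ₗ rho p G V g⁻¹, fun x y => ?_⟩
    rw [LinearMap.compl₁₂_apply, h1, LinearMap.comp_apply, rho_apply, rho_apply, rho_apply, hf]
  let _ : MulAction ↥S ↥Φ :=
    { smul := fun s B => ⟨B.1.compl₁₂ (rho p G U (s : G)⁻¹) (rho p G U (s : G)⁻¹), htw s B.1 B.2⟩
      one_smul := by
        intro B
        apply Subtype.ext
        ext x y
        show B.1 (rho p G U ((1 : ↥S) : G)⁻¹ x) (rho p G U ((1 : ↥S) : G)⁻¹ y) = B.1 x y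
        rw [rho_apply, rho_apply, Subgroup.coe_one, inv_one, one_smul, one_smul]
      mul_smul := by
        intro s t B
        apply Subtype.ext
        ext x y
        show B.1 (rho p G U ((s * t : ↥S) : G)⁻¹ x) (rho p G U ((s * t : ↥S) : G)⁻¹ y) =
          B.1 (rho p G U (t : G)⁻¹ (rho p G U (s : G)⁻¹ x)) (rho p G U (t : G)⁻¹ (rho p G U (s : G)⁻¹ y))
        simp only [rho_apply, Subgroup.coe_mul, mul_inv_rev, mul_smul] }
  have hfinEnd : Finite (U →ₗ[ZMod p] Module.Dual (ZMod p) U) := by
    have : Finite (Module.Dual (ZMod p) U) := Finite.of_injective (fun f : Module.Dual (ZMod p) U => (f : U → ZMod p))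
      DFunLike.coe_injective
    exact Finite.of_injective (fun f : U →ₗ[ZMod p] Module.Dual (ZMod p) U => (f : U → Module.Dual (ZMod p) U))
      DFunLike.coe_injective
  have hpΦ : p ∣ Nat.card ↥Φ := by
    obtain ⟨B, hB⟩ : ∃ B : ↥Φ, B ≠ 0 := by
      by_contra hcon
      push Not at hcon
      apply hΦ0
      rw [eq_bot_iff]
      intro B hB
      exact congrArg Subtype.val (hcon ⟨B, hB⟩)
    have h1 : addOrderOf B = p := by
      apply addOrderOf_eq_prime _ hB
      apply Subtype.ext
      ext x y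
      show (p • B.1) x y = 0
      rw [LinearMap.smul_apply, LinearMap.smul_apply, nsmul_eq_mul, CharP.cast_eq_zero, zero_mul]
    have h2 := addOrderOf_dvd_natCard B
    rwa [h1] at h2
  obtain ⟨B₀, hB₀, hB₀0⟩ := hS.exists_fixed_point_of_prime_dvd_card_of_fixed_point ↥Φ hpΦ (a := 0) (by
    intro s
    apply Subtype.ext
    ext x y
    rfl)
  -- `B₀` is `G`-invariant
  have hinv : ∀ (g : G) (x y : U), B₀.1 (g • x) (g • y) = B₀.1 x y := by
    let K : Subgroup G :=
      { carrier := {g | ∀ x y : U, B₀.1 (g • x) (g • y) = B₀.1 x y}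
        one_mem' := by intro x y; rw [one_smul, one_smul]
        mul_mem' := by
          intro g h hg hh x y
          rw [mul_smul, mul_smul, hg, hh]
        inv_mem' := by
          intro g hg x y
          have := hg (g⁻¹ • x) (g⁻¹ • y)
          rw [smul_inv_smul, smul_inv_smul] at this
          exact this.symm }
    have hLK : L ≤ K := by
      intro l hl x y
      obtain ⟨ψ, hψ⟩ := B₀.2
      rw [hψ, hψ, hf, hLV l hl]
    have hSK : S ≤ K := by
      intro s hs x y
      have h1 := congrArg Subtype.val (hB₀ ⟨s, hs⟩)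
      have h2 := LinearMap.congr_fun (LinearMap.congr_fun h1 (s • x)) (s • y)
      have h3 : B₀.1 (s⁻¹ • s • x) (s⁻¹ • s • y) = B₀.1 (s • x) (s • y) := h2
      rw [inv_smul_smul, inv_smul_smul] at h3
      exact h3.symm
    intro g
    have h6 : (⊤ : Subgroup G) ≤ K := by rw [← hLS]; exact sup_le hLK hSK
    exact h6 (Subgroup.mem_top g)
  -- `B₀` is nondegenerate
  have hinj : Function.Injective B₀.1 := by
    rw [injective_iff_map_eq_zero]
    let N : AddSubgroup U :=
      { carrier := {u | B₀.1 u = 0}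
        zero_mem' := map_zero _
        add_mem' := by
          intro u v hu hv
          show B₀.1 (u + v) = 0
          rw [map_add, show B₀.1 u = 0 from hu, show B₀.1 v = 0 from hv, add_zero]
        neg_mem' := by
          intro u hu
          show B₀.1 (-u) = 0
          rw [map_neg, show B₀.1 u = 0 from hu, neg_zero] }
    rcases hirr N (by
      intro g u hu
      show B₀.1 (g • u) = 0
      ext y
      have h1 := hinv g u (g⁻¹ • y)
      rw [smul_inv_smul, show B₀.1 u = 0 from hu] at h1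
      exact h1) with h1 | h1
    · intro u hu
      have : u ∈ N := hu
      rw [h1, AddSubgroup.mem_bot] at this
      exact this
    · exfalso
      apply hB₀0
      apply Subtype.ext
      ext u y
      have h3 : u ∈ N := by rw [h1]; trivial
      have h4 : B₀.1 u = 0 := h3
      rw [h4]; rfl
  let e : U ≃ₗ[ZMod p] Module.Dual (ZMod p) U :=
    LinearEquiv.ofInjectiveOfFinrankEq B₀.1 hinj (Subspace.dual_finrank_eq).symm
  have he : ∀ u, e u = B₀.1 u := fun u => rfl
  have hself : ∀ (T : Module.End (ZMod p) U) (g : G) (x y : U),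
      B₀.1 ((rho p G U g * T * rho p G U g⁻¹) x) y = B₀.1 (T (g⁻¹ • x)) (g⁻¹ • y) := by
    intro T g x y
    rw [← hinv g (T (g⁻¹ • x)) (g⁻¹ • y), smul_inv_smul]
    rfl
  have hrr : ∀ g : G, rho p G U g * rho p G U g⁻¹ = 1 := fun g => by rw [← map_mul, mul_inv_cancel, map_one]
  have hrr' : ∀ g : G, rho p G U g⁻¹ * rho p G U g = 1 := fun g => by rw [← map_mul, inv_mul_cancel, map_one]
  have key : ∀ (ψ : Module.Dual (ZMod p) V) (x y : U), ψ (a⁻¹ • f x y - f x y) = 0 := by
    intro ψ
    set B : U →ₗ[ZMod p] Module.Dual (ZMod p) U := fL.compr₂ ψ with hB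
    have hB1 : ∀ x y, B x y = ψ (f x y) := fun x y => by rw [hB, LinearMap.compr₂_apply, hfL]
    set h : Module.End (ZMod p) U := e.symm.toLinearMap ∘ₗ B with hh
    have hh1 : ∀ x, B₀.1 (h x) = B x := fun x => by
      rw [← he]
      exact e.apply_symm_apply (B x)
    have hL1 : ∀ l ∈ L, rho p G U l * h * rho p G U l⁻¹ = h := by
      intro l hl
      apply LinearMap.ext
      intro x
      apply hinj
      ext y
      rw [hself, hh1, hh1, hB1, hB1, hf, hLV _ (inv_mem hl)]
    have hhL : h ∈ HH p U L := by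
      intro l hl
      conv_rhs => rw [← hL1 l hl, mul_assoc, hrr', mul_one]
    set h' := rho p G U a * h * rho p G U a⁻¹ with hh'
    have hh'L : h' ∈ HH p U L := by
      intro l hl
      have hl' : a⁻¹ * l * a ∈ L := by simpa using hLn.conj_mem l hl a⁻¹
      have e1 := hhL _ hl'
      have e2 : rho p G U l * rho p G U a = rho p G U a * rho p G U (a⁻¹ * l * a) := by
        rw [← map_mul, ← map_mul]; congr 1; group
      have e3 : rho p G U (a⁻¹ * l * a) * rho p G U a⁻¹ = rho p G U a⁻¹ * rho p G U l := by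
        rw [← map_mul, ← map_mul]; congr 1; group
      rw [hh', ← mul_assoc, ← mul_assoc, e2, mul_assoc (rho p G U a), e1, mul_assoc, mul_assoc, e3]
      simp only [mul_assoc]
    set δ := h' - h with hδ
    have hδL : δ ∈ HH p U L := sub_mem hh'L hhL
    have hform : ∀ x y, B₀.1 (δ x) y = ψ (a⁻¹ • f x y - f x y) := by
      intro x y
      have e1 : B₀.1 (h' x) y = ψ (a⁻¹ • f x y) := by
        rw [hh', hself, hh1, hB1, hf]
      have e2 : B₀.1 (h x) y = ψ (f x y) := by rw [hh1, hB1]
      rw [hδ, LinearMap.sub_apply, map_sub, LinearMap.sub_apply, e1, e2, map_sub]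
    have hδa : rho p G U a * δ * rho p G U a⁻¹ = δ := by
      apply LinearMap.ext
      intro x
      apply hinj
      ext y
      rw [hself, hform, hform, hf]
      have h1 := haV (a⁻¹ • a⁻¹ • f x y)
      unfold dl at h1
      rw [smul_sub, smul_inv_smul, smul_inv_smul] at h1
      have h2 : a⁻¹ • a⁻¹ • f x y - a⁻¹ • f x y = (a⁻¹ • f x y - f x y) + (f x y - a⁻¹ • f x y - (a⁻¹ • f x y - a⁻¹ • a⁻¹ • f x y)) := by abel
      rw [h2, h1, add_zero]
    have hAδ : δ * rho p G U a = rho p G U a * δ := by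
      conv_lhs => rw [← hδa, mul_assoc, hrr', mul_one]
    have hc : δ * h = h * δ := comm hLn hS hLS hirr hδL hhL
    have hAh : rho p G U a * h = (h + δ) * rho p G U a := by
      rw [hδ, add_sub_cancel, hh', mul_assoc, hrr', mul_one]
    have hnil : (rho p G U a - 1) ^ (p - 1) = 0 := by
      have h1 : ∀ (k : ℕ) (u : U), ((rho p G U a - 1) ^ k) u = (dl a)^[k] u := by
        intro k
        induction k with
        | zero => intro u; rw [pow_zero]; rfl
        | succ k ih =>
          intro u
          rw [pow_succ, Function.iterate_succ_apply, Module.End.mul_apply, ih]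
          rfl
      apply LinearMap.ext
      intro u
      rw [h1, haU]; rfl
    have hchar : CharP (Module.End (ZMod p) U) p := charP_end
    have hδ0 : δ ^ (p - 1) = 0 := by
      refine delta_pow (p := p) ?_ (A := rho p G U a) (by abel) (hrr a) hAh hAδ hc hnil
      intro k hk0 hkp x hx
      have h1 : ((k : ZMod p)) • x = 0 := by
        rw [Nat.cast_smul_eq_nsmul, nsmul_eq_mul]; exact hx
      rcases smul_eq_zero.1 h1 with h2 | h2
      · exfalso
        rw [ZMod.natCast_eq_zero_iff] at h2
        exact absurd (Nat.le_of_dvd hk0 h2) (not_le.2 hkp)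
      · exact h2
    have hred : IsReduced (HH p U L) := (isReduced_iff_pow_one_lt 2 one_lt_two).2 fun x hx =>
      reduced hLn hS hLS hirr x (by rw [← sq]; exact hx)
    have h3 : (⟨δ, hδL⟩ : HH p U L) = 0 := hred.eq_zero _ ⟨p - 1, Subtype.ext hδ0⟩
    have h4 : δ = 0 := congrArg Subtype.val h3
    intro x y
    rw [← hform, h4, LinearMap.zero_apply, map_zero]; rfl
  have h1 : a⁻¹ • f (a • x) (a • y) - f (a • x) (a • y) = 0 := hsep _ fun ψ => key ψ _ _
  rw [hf, inv_smul_smul] at h1
  exact (sub_eq_zero.1 h1).symm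

/-- **T6** : `a` centralizes `f(U, U)` -/
theorem main (hU : ∀ u : U, p • u = 0) (hV : ∀ v : V, p • v = 0) {f : U →+ U →+ V}
    (hf : ∀ (g : G) (x y : U), f (g • x) (g • y) = g • f x y) {L S : Subgroup G} (hLn : L.Normal)
    (hLV : ∀ l ∈ L, ∀ v : V, l • v = v) (hS : IsPGroup p S) (hLS : L ⊔ S = ⊤)
    (hirr : ∀ N : AddSubgroup U, (∀ (g : G), ∀ u ∈ N, g • u ∈ N) → N = ⊥ ∨ N = ⊤) {a : G}
    (haU : ∀ u : U, (dl a)^[p - 1] u = 0) (haV : ∀ v : V, dl a (dl a v) = 0) (x y : U) :
    a • f x y = f x y := by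
  let _ : Module (ZMod p) U := AddCommGroup.zmodModule hU
  let _ : Module (ZMod p) V := AddCommGroup.zmodModule hV
  exact main' hf hLn hLV hS hLS hirr haU haV x y

end Cfsg.Agent.H215.J7.EndL
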