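import Cfsg.Agent.H215.J7.DMod
import Cfsg.Agent.H215.J7.EndL
import Mathlib.GroupTheory.Nilpotent

/-!
# The bounds on `D / R` (S3068)
-/

set_option autoImplicit false

namespace Cfsg.Agent.H215.J7

open Subgroup Cfsg Cfsg.Agent.H215.J7.Form
open scoped commutatorElement

universe u

attribute [local instance] DMod.iW DMod.iV DMod.aW DMod.aV DMod.fW DMod.fV

variable {G : Type u} [Group G] {p : ℕ} {Q R D : Subgroup G}

namespace DMod

theorem w_one (m : DMod p Q R D) : m.w 1 = 0 := (m.w_zero 1 (one_mem D)).2 (one_mem R)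

theorem w_inv (m : DMod p Q R D) {x : G} (hx : x ∈ D) : m.w x⁻¹ = -m.w x := by
  have h1 := m.w_add x hx x⁻¹ (inv_mem hx)
  rw [mul_inv_cancel, m.w_one] at h1
  exact (neg_eq_of_add_eq_zero_right h1.symm).symm

theorem w_comm (m : DMod p Q R D) (hD : D.Normal) (g : G) {x : G} (hx : x ∈ D) : m.w ⁅g, x⁆ = dl g (m.w x) := by
  rw [commutatorElement_def, m.w_add _ (hD.conj_mem x hx g) _ (inv_mem hx), m.w_smul g x hx, m.w_inv hx,
    ← sub_eq_add_neg]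
  rfl

theorem comm_mem (hD : D.Normal) (g : G) {x : G} (hx : x ∈ D) : ⁅g, x⁆ ∈ D := by
  rw [commutatorElement_def]
  exact mul_mem (hD.conj_mem x hx g) (inv_mem hx)

theorem w_pow (m : DMod p Q R D) {x : G} (hx : x ∈ D) (n : ℕ) : m.w (x ^ n) = n • m.w x := by
  induction n with
  | zero => rw [pow_zero, m.w_one, zero_smul]
  | succ n ih => rw [pow_succ, m.w_add _ (pow_mem hx n) _ hx, ih, succ_nsmul]

theorem v_one (m : DMod p Q R D) : m.v 1 = 0 := (m.v_zero 1 (one_mem _)).2 rfl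

theorem v_inv (m : DMod p Q R D) {x : G} (hx : x ∈ VV p Q) : m.v x⁻¹ = -m.v x := by
  have h1 := m.v_add x hx x⁻¹ (inv_mem hx)
  rw [mul_inv_cancel, m.v_one] at h1
  exact (neg_eq_of_add_eq_zero_right h1.symm).symm

theorem v_comm (m : DMod p Q R D) (hQ : Q.Normal) (g : G) {x : G} (hx : x ∈ VV p Q) : m.v ⁅g, x⁆ = dl g (m.v x) := by
  have hV := H352.J7.vv_normal p Q
  rw [commutatorElement_def, m.v_add _ (hV.conj_mem x hx g) _ (inv_mem hx), m.v_smul g x hx, m.v_inv hx,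
    ← sub_eq_add_neg]
  rfl

theorem v_pow (m : DMod p Q R D) {x : G} (hx : x ∈ VV p Q) (n : ℕ) : m.v (x ^ n) = n • m.v x := by
  induction n with
  | zero => rw [pow_zero, m.v_one, zero_smul]
  | succ n ih => rw [pow_succ, m.v_add _ (pow_mem hx n) _ hx, ih, succ_nsmul]

theorem nsmul_W (m : DMod p Q R D) (h : Pre p Q R D) (u : m.W) : p • u = 0 := by
  obtain ⟨x, hx, rfl⟩ := m.w_surj u
  rw [← m.w_pow hx, m.w_zero _ (pow_mem hx p)]
  exact h.pow x hx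

theorem nsmul_V (m : DMod p Q R D) (u : m.V) : p • u = 0 := by
  obtain ⟨x, hx, rfl⟩ := m.v_surj u
  rw [← m.v_pow hx, hx.2, m.v_one]

theorem f_smul (m : DMod p Q R D) (h : Pre p Q R D) (g : G) (x y : m.W) : m.f (g • x) (g • y) = g • m.f x y := by
  obtain ⟨x, hx, rfl⟩ := m.w_surj x
  obtain ⟨y, hy, rfl⟩ := m.w_surj y
  rw [← m.w_smul g x hx, ← m.w_smul g y hy, m.f_eq _ (h.Dn.conj_mem x hx g) _ (h.Dn.conj_mem y hy g), m.f_eq x hx y hy,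
    ← m.v_smul g _ (m.f_mem x hx y hy)]
  congr 1
  simp only [commutatorElement_def]; group

theorem f_self (m : DMod p Q R D) (x : m.W) : m.f x x = 0 := by
  obtain ⟨x, hx, rfl⟩ := m.w_surj x
  rw [m.f_eq x hx x hx, commutatorElement_self, m.v_one]

theorem two_V [hp : Fact p.Prime] (hp2 : p ≠ 2) (m : DMod p Q R D) (z : m.V) (hz : z + z = 0) : z = 0 := by
  have h1 := m.nsmul_V z
  have h2 : 2 • z = 0 := by rw [two_nsmul]; exact hz
  have h3 : addOrderOf z ∣ 1 := by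
    have hg : Nat.gcd p 2 = 1 := (Nat.coprime_primes hp.out Nat.prime_two).2 hp2
    rw [← hg]
    exact Nat.dvd_gcd (addOrderOf_dvd_of_nsmul_eq_zero h1) (addOrderOf_dvd_of_nsmul_eq_zero h2)
  exact AddMonoid.addOrderOf_eq_one_iff.1 (Nat.dvd_one.1 h3)

theorem two_W [hp : Fact p.Prime] (hp2 : p ≠ 2) (m : DMod p Q R D) (h : Pre p Q R D) (z : m.W) (hz : z + z = 0) :
    z = 0 := by
  have h1 := m.nsmul_W h z
  have h2 : 2 • z = 0 := by rw [two_nsmul]; exact hz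
  have h3 : addOrderOf z ∣ 1 := by
    have hg : Nat.gcd p 2 = 1 := (Nat.coprime_primes hp.out Nat.prime_two).2 hp2
    rw [← hg]
    exact Nat.dvd_gcd (addOrderOf_dvd_of_nsmul_eq_zero h1) (addOrderOf_dvd_of_nsmul_eq_zero h2)
  exact AddMonoid.addOrderOf_eq_one_iff.1 (Nat.dvd_one.1 h3)

/-- the facts about `A` -/
structure Fac (p : ℕ) (Q R D S A : Subgroup G) : Prop where
  S_p : IsPGroup p S
  DS : D ≤ S
  AS : A ≤ S
  Ac : Ab A
  quad : ∀ z ∈ ZZ Q, ∀ a ∈ A, ∀ b ∈ A, ⁅a, ⁅b, z⁆⁆ = 1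
  form : ∀ y ∈ D, (∀ a ∈ A, ∀ b ∈ A, ⁅a, y⁆ * ⁅b, y⁆ = ⁅b, y⁆ * ⁅a, y⁆) →
    ∀ a ∈ A, ∀ b ∈ A, ∀ c ∈ A, ⁅c, ⁅b, ⁅a, y⁆⁆⁆ ∈ R

theorem hc (m : DMod p Q R D) {S A : Subgroup G} (k : Fac p Q R D S A) (a b : ↥A) (w : m.W) :
    a • b • w = b • a • w := by
  have h1 : a * b = b * a := Subtype.ext (k.Ac a a.2 b b.2)
  rw [← mul_smul, h1, mul_smul]

theorem hstar (m : DMod p Q R D) (h : Pre p Q R D) {S A : Subgroup G} (k : Fac p Q R D S A) (w : m.W)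
    (hw : ∀ a b : ↥A, m.f (dl a w) (dl b w) = 0) (a b c : ↥A) : dl c (dl b (dl a w)) = 0 := by
  obtain ⟨y, hy, rfl⟩ := m.w_surj w
  have hcm : ∀ (g : G) {x : G}, x ∈ D → ⁅g, x⁆ ∈ D := fun g x hx => comm_mem h.Dn g hx
  have e : ∀ (a : ↥A) {x : G}, x ∈ D → dl a (m.w x) = m.w ⁅(a : G), x⁆ := fun a x hx => (m.w_comm h.Dn (a : G) hx).symm
  have h1 : ∀ a ∈ A, ∀ b ∈ A, ⁅a, y⁆ * ⁅b, y⁆ = ⁅b, y⁆ * ⁅a, y⁆ := by
    intro a ha b hb
    have h2 := hw ⟨a, ha⟩ ⟨b, hb⟩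
    rw [e _ hy, e _ hy, m.f_eq _ (hcm _ hy) _ (hcm _ hy), m.v_zero _ (m.f_mem _ (hcm _ hy) _ (hcm _ hy)),
      commutatorElement_eq_one_iff_mul_comm] at h2
    exact h2
  rw [e _ hy, e _ (hcm _ hy), e _ (hcm _ (hcm _ hy)), m.w_zero _ (hcm _ (hcm _ (hcm _ hy)))]
  exact k.form y hy h1 a a.2 b b.2 c c.2

theorem hZ (m : DMod p Q R D) (h : Pre p Q R D) {S A : Subgroup G} (k : Fac p Q R D S A) (a b : ↥A) (z : m.V) :
    dl b (dl a z) = 0 := by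
  have hV := h.Qn
  have hV := H352.J7.vv_normal p Q
  obtain ⟨y, hy, rfl⟩ := m.v_surj z
  have hcm : ∀ (g : G) {x : G}, x ∈ VV p Q → ⁅g, x⁆ ∈ VV p Q := fun g x hx => comm_mem hV g hx
  have e : ∀ (a : ↥A) {x : G}, x ∈ VV p Q → dl a (m.v x) = m.v ⁅(a : G), x⁆ := fun a x hx =>
    (m.v_comm h.Qn (a : G) hx).symm
  rw [e _ hy, e _ (hcm _ hy), k.quad y hy.1 b b.2 a a.2, m.v_one]

theorem hnil (m : DMod p Q R D) (h : Pre p Q R D) [Finite G] [Fact p.Prime] {S A : Subgroup G}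
    (k : Fac p Q R D S A) : ∃ N, Ip ↥A (⊤ : AddSubgroup m.W) N = ⊥ := by
  have hn : Group.IsNilpotent ↥S := k.S_p.isNilpotent
  obtain ⟨N, hN⟩ := Subgroup.nilpotent_iff_lowerCentralSeries.1 hn
  refine ⟨N, ?_⟩
  have key : ∀ n, ∀ u ∈ Ip ↥A (⊤ : AddSubgroup m.W) n,
      ∃ x : ↥S, x ∈ Subgroup.lowerCentralSeries (⊤ : Subgroup ↥S) n ∧ (x : G) ∈ D ∧ m.w x = u := by
    intro n
    induction n with
    | zero =>
      intro u _
      obtain ⟨x, hx, rfl⟩ := m.w_surj u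
      exact ⟨⟨x, k.DS hx⟩, Subgroup.mem_top _, hx, rfl⟩
    | succ n ih =>
      let K : AddSubgroup m.W :=
        { carrier := {u | ∃ x : ↥S, x ∈ Subgroup.lowerCentralSeries (⊤ : Subgroup ↥S) (n + 1) ∧ (x : G) ∈ D ∧ m.w x = u}
          zero_mem' := ⟨1, one_mem _, one_mem _, m.w_one⟩
          add_mem' := by
            rintro _ _ ⟨x, hx, hxD, rfl⟩ ⟨y, hy, hyD, rfl⟩
            exact ⟨x * y, mul_mem hx hy, mul_mem hxD hyD, m.w_add _ hxD _ hyD⟩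
          neg_mem' := by
            rintro _ ⟨x, hx, hxD, rfl⟩
            exact ⟨x⁻¹, inv_mem hx, inv_mem hxD, m.w_inv hxD⟩ }
      have h1 : Ip ↥A (⊤ : AddSubgroup m.W) (n + 1) ≤ K := by
        refine Ip_le fun a y hy => ?_
        obtain ⟨x, hx, hxD, rfl⟩ := ih y hy
        refine ⟨⁅(⟨a, k.AS a.2⟩ : ↥S), x⁆, ?_, comm_mem h.Dn (a : G) hxD, m.w_comm h.Dn (a : G) hxD⟩
        have h2 : ⁅x, (⟨a, k.AS a.2⟩ : ↥S)⁆ ∈ Subgroup.lowerCentralSeries (⊤ : Subgroup ↥S) (n + 1) :=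
          commutator_mem_commutator hx (Subgroup.mem_top _)
        rw [← commutatorElement_inv]
        exact inv_mem h2
      exact fun u hu => h1 hu
  rw [eq_bot_iff]
  intro u hu
  obtain ⟨x, hx, hxD, rfl⟩ := key N u hu
  rw [hN, Subgroup.mem_bot] at hx
  rw [hx]
  exact m.w_one

theorem six [Finite G] [Fact p.Prime] (m : DMod p Q R D) (h : Pre p Q R D) {S A : Subgroup G}
    (k : Fac p Q R D S A) : Ip ↥A (⊤ : AddSubgroup m.W) 6 = ⊥ :=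
  Form.six (A := ↥A) (f := m.f) (fun a x y => m.f_smul h (a : G) x y) (m.hc k) (m.hstar h k)
    (fun a b z => m.hZ h k a b z) (m.hnil h k)

theorem four [Finite G] [Fact p.Prime] (hp2 : p ≠ 2) (m : DMod p Q R D) (h : Pre p Q R D) {S A : Subgroup G}
    (k : Fac p Q R D S A) {Y : AddSubgroup m.W} (hY : ∀ a : ↥A, ∀ y ∈ Y, a • y ∈ Y)
    (hfix : ∀ x ∈ Y, ∀ y ∈ Y, ∀ a : ↥A, a • m.f x y = m.f x y) : Ip ↥A Y 4 = ⊥ :=
  Form.four (A := ↥A) (f := m.f) (fun a x y => m.f_smul h (a : G) x y) (m.f_self) (m.two_V hp2) (m.hc k) (m.hstar h k)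
    (m.hnil h k) hY hfix

end DMod

end Cfsg.Agent.H215.J7
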